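import Groth.Agent.Lib.LCI6.Syntomic
import Groth.Agent.Lib.CMBasics.Basic
import Groth.Agent.Lib.CatCM.Basic
import Groth.Agent.Lib.Faltings.Transfer
import Groth.Agent.Lib.HB26.Spread

/-!
# Local complete intersections over a field are Cohen–Macaulay
-/

set_option autoImplicit false
set_option linter.all false

universe u

open IsLocalRing RingTheory.Sequence

namespace GrothLib.SyntLoc

/-- A regular sequence cuts a Cohen–Macaulay local ring out of one. -/
theorem isCohenMacaulayLocalRing_quotient_ofList {L : Type u} [CommRing L] [hL : LocCoh.IsCohenMacaulayLocalRing L]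
    (rs : List L) (hm : ∀ r ∈ rs, r ∈ maximalIdeal L) (hreg : IsWeaklyRegular L rs) :
    LocCoh.IsCohenMacaulayLocalRing (L ⧸ Ideal.ofList rs) := by
  have hM : LocCoh.IsCohenMacaulayModule L L := hL.supportDim_eq_depth
  have h := CMBasics.isCM_quotient_ofList rs hm L hM hreg
  have e : (L ⧸ (Ideal.ofList rs • (⊤ : Submodule L L))) ≃ₗ[L] (L ⧸ Ideal.ofList rs) :=
    Submodule.quotEquivOfEq _ _ (by rw [smul_eq_mul, Ideal.mul_top])
  have hne : Ideal.ofList rs ≠ ⊤ := fun e =>
    (maximalIdeal.isMaximal L).ne_top (top_le_iff.1 (e.ge.trans (Ideal.span_le.2 hm)))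
  haveI : Nontrivial (L ⧸ Ideal.ofList rs) := Ideal.Quotient.nontrivial_iff.2 hne
  haveI : IsLocalRing (L ⧸ Ideal.ofList rs) := IsLocalRing.of_surjective' (Ideal.Quotient.mk _) Ideal.Quotient.mk_surjective
  refine ⟨?_⟩
  unfold LocCoh.IsCohenMacaulayModule at h
  rw [Module.supportDim_eq_of_equiv e, Module.supportDim_quotient_eq_ringKrullDim,
    show LocCoh.depth L _ = LocCoh.depth L _ from Depth17.idealDepth_congr (maximalIdeal L) e,
    Faltings.depth_eq_of_surjective (A' := L ⧸ Ideal.ofList rs) Ideal.Quotient.mk_surjective] at h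
  rwa [Module.supportDim_self_eq_ringKrullDim]

variable {k : Type u} [Field k] {S : Type u} [CommRing S] [Algebra k S]

theorem isCohenMacaulayRing_of_isLCI (h : LCI.IsLCI k S) : LocCoh.IsCohenMacaulayRing S := by
  obtain ⟨hft, n, α, hα, hI⟩ := h
  haveI : IsNoetherianRing S := isNoetherianRing_of_surjective _ _ α.toRingHom hα
  refine ⟨fun q _ => ?_⟩
  let p : Ideal (MvPolynomial (Fin n) k) := q.comap α.toRingHom
  obtain ⟨g, hg, l, hl, hIl⟩ := (LCI6.isKoszulRegularIdeal_ker_iff _ hα).mp hI q inferInstance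
  obtain ⟨l', -, hl', hI'⟩ := LCI6.exists_atPrime_list g l hl hIl p hg
  let L := Localization.AtPrime p
  haveI : IsRegularLocalRing L := inferInstance
  haveI : LocCoh.IsCohenMacaulayRing (MvPolynomial (Fin n) k) := CatCM.isCohenMacaulayRing_of_isRegularRing _
  haveI : LocCoh.IsCohenMacaulayLocalRing L := LocCoh.IsCohenMacaulayRing.isCohenMacaulayLocalRing_localization p
  have hker : RingHom.ker α.toRingHom ≤ p := fun x hx => by
    rw [Ideal.mem_comap, RingHom.mem_ker.mp hx]; exact zero_mem _
  have hmem : ∀ r ∈ l', r ∈ maximalIdeal L := fun r hr => by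
    rw [← Localization.AtPrime.map_eq_maximalIdeal]
    exact Ideal.map_mono hker (hI' ▸ Ideal.subset_span hr)
  have hmem' : ∀ i, l'.get i ∈ maximalIdeal L := fun i => hmem _ (List.get_mem l' i)
  have hH1 := GrothLib.SeqKinds.isH1Regular_of_isKoszulRegularSeq l' hl'
  have hw : IsWeaklyRegular L l' := by
    rw [← List.ofFn_get l']
    refine GrothLib.KoszulH1.isWeaklyRegular_of_separates _
      (fun i => GrothLib.KoszulH1.separates_of_mem_jacobson (IsLocalRing.maximalIdeal_le_jacobson ⊥ (hmem' i))) ?_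
    intro m hm
    refine Submodule.span_le.2 ?_ (hH1 m (by rw [← hm]; exact Finset.sum_congr rfl fun i _ => mul_comm _ _))
    rintro _ ⟨i, j, rfl⟩
    exact Submodule.subset_span ⟨i, j, 1, by simp [← Pi.single_smul']⟩
  haveI := isCohenMacaulayLocalRing_quotient_ofList l' hmem hw
  let φ : L →+* Localization.AtPrime q := Localization.localRingHom p q α.toRingHom rfl
  have hφ : Function.Surjective φ := by
    intro z
    obtain ⟨a, s, rfl⟩ := IsLocalization.exists_mk'_eq q.primeCompl z
    obtain ⟨a, rfl⟩ := hα a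
    obtain ⟨t, ht⟩ := hα s
    have ht' : t ∈ p.primeCompl := fun h' => s.2 (ht ▸ h' : (s : S) ∈ q)
    refine ⟨IsLocalization.mk' L a ⟨t, ht'⟩, ?_⟩
    rw [Localization.localRingHom_mk']
    congr 1
    exact Subtype.ext ht
  have hkφ : RingHom.ker φ = Ideal.ofList l' := by
    rw [← hI']
    refine le_antisymm (fun z hz => ?_) (Ideal.map_le_iff_le_comap.2 fun x hx => ?_)
    · obtain ⟨a, s, rfl⟩ := IsLocalization.exists_mk'_eq p.primeCompl z
      rw [RingHom.mem_ker, Localization.localRingHom_mk', IsLocalization.mk'_eq_zero_iff] at hz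
      obtain ⟨⟨m, hm⟩, hma⟩ := hz
      obtain ⟨m, rfl⟩ := hα m
      have hmp : m ∈ p.primeCompl := hm
      have hxmem : m * a ∈ RingHom.ker α.toRingHom := by rw [RingHom.mem_ker, map_mul]; exact hma
      rw [IsLocalization.mk'_mem_iff]
      have := Ideal.mem_map_of_mem (algebraMap (MvPolynomial (Fin n) k) L) hxmem
      rw [map_mul] at this
      exact (Ideal.unit_mul_mem_iff_mem _ (IsLocalization.map_units L (⟨m, hmp⟩ : p.primeCompl))).1 this
    · rw [Ideal.mem_comap, RingHom.mem_ker, Localization.localRingHom_to_map, RingHom.mem_ker.mp hx, map_zero]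
  exact HB26.isCohenMacaulayLocalRing_of_ringEquiv
    ((Ideal.quotEquivOfEq hkφ.symm).trans (RingHom.quotientKerEquivOfSurjective hφ))

end GrothLib.SyntLoc
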