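import Groth.Agent.Lib.SnFibres.Basic
import Groth.Agent.Lib.Props8.CMGen

/-!
# Serre's condition under localisation
-/

set_option autoImplicit false
set_option linter.all false

universe u

open IsLocalRing

namespace GrothLib.SyntLoc

/-- The inequality of Serre's condition at a local ring. -/
def SkBound (k : ℕ) (A : Type u) [CommRing A] [IsLocalRing A] : Prop :=
  min (k : WithBot ℕ∞) (ringKrullDim A) ≤ ((LocCoh.depth A A : ℕ∞) : WithBot ℕ∞)

theorem skBound_congr {k : ℕ} {A B : Type u} [CommRing A] [CommRing B] [IsLocalRing A] [IsLocalRing B]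
    [IsNoetherianRing A] (e : A ≃+* B) (h : SkBound k A) : SkBound k B := by
  haveI := isNoetherianRing_of_ringEquiv A e
  letI : Algebra A B := e.toRingHom.toAlgebra
  have hd : LocCoh.depth B B = LocCoh.depth A A := by
    haveI : Module.Finite A B := Module.Finite.of_surjective (Algebra.linearMap _ _) e.surjective
    rw [← GrothLib.Faltings.depth_eq_of_surjective (A := A) e.surjective B]
    exact (GrothLib.Depth.idealDepth_eq_of_equiv _ (LinearEquiv.ofBijective (Algebra.linearMap _ _) e.bijective)).symm
  rw [SkBound, ← ringKrullDim_eq_of_ringEquiv e, hd]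
  exact h

theorem hasSk_iff_skBound {k : ℕ} (R : Type u) [CommRing R] [IsNoetherianRing R] :
    LocCoh.HasSk k R R ↔ ∀ (p : Ideal R) [p.IsPrime], SkBound k (Localization.AtPrime p) :=
  Hensel.hasSk_self_iff R k

/-- Serre's condition passes to localisations. -/
theorem hasSk_localization {k : ℕ} {R : Type u} [CommRing R] [IsNoetherianRing R] (h : LocCoh.HasSk k R R)
    (M : Submonoid R) (A : Type u) [CommRing A] [Algebra R A] [IsLocalization M A] : LocCoh.HasSk k A A := by
  haveI : IsNoetherianRing A := IsLocalization.isNoetherianRing M A inferInstance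
  rw [hasSk_iff_skBound] at h ⊢
  intro Q _
  haveI : IsLocalization.AtPrime (Localization.AtPrime Q) (Q.comap (algebraMap R A)) :=
    IsLocalization.isLocalization_isLocalization_atPrime_isLocalization M (Localization.AtPrime Q) Q
  exact skBound_congr
    (IsLocalization.algEquiv (Q.comap (algebraMap R A)).primeCompl
      (Localization.AtPrime (Q.comap (algebraMap R A))) (Localization.AtPrime Q)).toRingEquiv
    (h _)

theorem skBound_of_hasSk {k : ℕ} {A : Type u} [CommRing A] [IsLocalRing A] [IsNoetherianRing A]
    (h : LocCoh.HasSk k A A) : SkBound k A := by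
  rw [hasSk_iff_skBound] at h
  have e : A ≃ₐ[A] Localization.AtPrime (maximalIdeal A) :=
    IsLocalization.atUnits A (maximalIdeal A).primeCompl (fun s hs => notMem_maximalIdeal.1 hs)
  haveI : IsNoetherianRing (Localization.AtPrime (maximalIdeal A)) := isNoetherianRing_of_ringEquiv A e.toRingEquiv
  exact skBound_congr e.symm.toRingEquiv (h _)

theorem skBound_iff_cm {A : Type u} [CommRing A] [IsLocalRing A] [IsNoetherianRing A] :
    LocCoh.IsCohenMacaulayLocalRing A ↔ LocCoh.IsCohenMacaulayRing A := by
  constructor
  · intro h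
    exact ⟨fun p _ => Props8.isCohenMacaulayLocalRing_localization A p⟩
  · intro h
    have e : A ≃ₐ[A] Localization.AtPrime (maximalIdeal A) :=
      IsLocalization.atUnits A (maximalIdeal A).primeCompl (fun s hs => notMem_maximalIdeal.1 hs)
    haveI := h.isCohenMacaulayLocalRing_localization (maximalIdeal A)
    exact HB26.isCohenMacaulayLocalRing_of_ringEquiv e.symm.toRingEquiv

/-- A Noetherian local ring is Cohen–Macaulay when it satisfies every `(S_k)`. -/
theorem isCohenMacaulayLocalRing_iff_forall_hasSk {A : Type u} [CommRing A] [IsLocalRing A] [IsNoetherianRing A] :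
    LocCoh.IsCohenMacaulayLocalRing A ↔ ∀ k, LocCoh.HasSk k A A :=
  skBound_iff_cm.trans SnFibres.isCohenMacaulayRing_iff_forall_hasSk

end GrothLib.SyntLoc
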