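import Groth.Agent.Lib.SyntLoc.Field
import Groth.Agent.Lib.SyntLoc.Sk
import Groth.Agent.Lib.CartierDescent.Scheme
import Groth.Agent.S2086
import Groth.Agent.S9437
import Groth.Agent.S0116

/-!
# Serre's condition is local in the syntomic topology
-/

set_option autoImplicit false
set_option linter.all false

universe u

open CategoryTheory CategoryTheory.Limits AlgebraicGeometry TensorProduct

namespace GrothLib.SyntLoc

variable {X S : Scheme.{u}}

theorem flat_of_isSyntomicMor {f : X ⟶ S} (h : Synt.IsSyntomicMor f) : Flat f :=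
  (HasRingHomProperty.iff_exists_appLE (P := @Flat)
    (RingHom.Flat.stableUnderComposition.stableUnderCompositionWithLocalizationAway
      RingHom.Flat.holdsForLocalizationAway).left).mpr fun x => by
    obtain ⟨U, V, e, hx, hs⟩ := h x
    exact ⟨V, U, hx, e, hs.1⟩

theorem lfp_of_isSyntomicMor {f : X ⟶ S} (h : Synt.IsSyntomicMor f) : LocallyOfFinitePresentation f :=
  (HasRingHomProperty.iff_exists_appLE (P := @LocallyOfFinitePresentation)
    (RingHom.finitePresentation_stableUnderComposition.stableUnderCompositionWithLocalizationAway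
      RingHom.finitePresentation_holdsForLocalizationAway).left).mpr fun x => by
    obtain ⟨U, V, e, hx, hs⟩ := h x
    exact ⟨V, U, hx, e, hs.2.1⟩

theorem hasSk_section {k : ℕ} [IsLocallyNoetherian S] {V : S.Opens} (hV : IsAffineOpen V)
    (h : ∀ s : S, LocCoh.HasSk k (S.presheaf.stalk s) (S.presheaf.stalk s)) :
    LocCoh.HasSk k Γ(S, V) Γ(S, V) := by
  haveI : IsNoetherianRing Γ(S, V) := IsLocallyNoetherian.component_noetherian ⟨V, hV⟩
  rw [hasSk_iff_skBound]
  intro p _
  obtain ⟨y, hy, hp⟩ := CartierDescent.exists_primeIdealOf_eq hV p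
  subst hp
  letI := S.presheaf.algebra_section_stalk ⟨y, hy⟩
  haveI := hV.isLocalization_stalk ⟨y, hy⟩
  exact skBound_congr
    (IsLocalization.algEquiv (hV.primeIdealOf ⟨y, hy⟩).asIdeal.primeCompl (S.presheaf.stalk y) _).toRingEquiv
    (skBound_of_hasSk (h y))

/-- Serre's condition ascends along syntomic morphisms. -/
theorem hasSk_ascend {k : ℕ} {f : X ⟶ S} (hf : Synt.IsSyntomicMor f) [IsLocallyNoetherian S]
    (h : ∀ s : S, LocCoh.HasSk k (S.presheaf.stalk s) (S.presheaf.stalk s)) (x : X) :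
    LocCoh.HasSk k (X.presheaf.stalk x) (X.presheaf.stalk x) := by
  haveI := lfp_of_isSyntomicMor hf
  haveI : IsLocallyNoetherian X := LocallyOfFiniteType.isLocallyNoetherian f
  obtain ⟨U, V, e, hx, hs⟩ := hf x
  letI := (f.appLE V.1 U.1 e).hom.toAlgebra
  haveI : IsNoetherianRing Γ(X, U.1) := IsLocallyNoetherian.component_noetherian U
  haveI : IsNoetherianRing Γ(S, V.1) := IsLocallyNoetherian.component_noetherian V
  haveI : Module.Flat Γ(S, V.1) Γ(X, U.1) := hs.1
  have hfib : ∀ (p : Ideal Γ(S, V.1)) [p.IsPrime], LocCoh.HasSk k (p.Fiber Γ(X, U.1)) (p.Fiber Γ(X, U.1)) :=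
    fun p hp => by
      haveI : LocCoh.IsCohenMacaulayRing (p.Fiber Γ(X, U.1)) :=
        isCohenMacaulayRing_of_isLCI (LCI6.isLCIOver_iff_isLCI.mp (hs.2.2 ⟨p, hp⟩))
      exact SnFibres.isCohenMacaulayRing_iff_forall_hasSk.1 inferInstance k
  have hU : LocCoh.HasSk k Γ(X, U.1) Γ(X, U.1) :=
    Groth.Agent.S2086.result (R := Γ(S, V.1)) k (hasSk_section V.2 h) hfib
  letI := X.presheaf.algebra_section_stalk ⟨x, hx⟩
  haveI := U.2.isLocalization_stalk ⟨x, hx⟩
  exact hasSk_localization hU (U.2.primeIdealOf ⟨x, hx⟩).asIdeal.primeCompl _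

/-- Serre's condition descends along flat morphisms. -/
theorem hasSk_descend {k : ℕ} (f : X ⟶ S) [Flat f] [IsLocallyNoetherian X] (x : X)
    (h : LocCoh.HasSk k (X.presheaf.stalk x) (X.presheaf.stalk x)) :
    LocCoh.HasSk k (S.presheaf.stalk (f x)) (S.presheaf.stalk (f x)) := by
  letI := (f.stalkMap x).hom.toAlgebra
  haveI : Module.Flat (S.presheaf.stalk (f x)) (X.presheaf.stalk x) := AlgebraicGeometry.Flat.stalkMap f x
  haveI : IsLocalHom (algebraMap (S.presheaf.stalk (f x)) (X.presheaf.stalk x)) :=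
    inferInstanceAs (IsLocalHom (f.stalkMap x).hom)
  haveI : Module.FaithfullyFlat (S.presheaf.stalk (f x)) (X.presheaf.stalk x) :=
    Module.FaithfullyFlat.of_flat_of_isLocalHom
  exact (Groth.Agent.S9437.result k _ _ h).2

set_option backward.isDefEq.respectTransparency.types false in
theorem isLocallyNoetherian_descend {ι : Type u} {S : Scheme.{u}} {X : ι → Scheme.{u}} (f : ∀ i, X i ⟶ S)
    (hsurj : ∀ s : S, ∃ i, s ∈ Set.range (f i).base) (hsyn : ∀ i, Synt.IsSyntomicMor (f i))
    (hN : ∀ i, IsLocallyNoetherian (X i)) : IsLocallyNoetherian S := by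
  haveI : IsLocallyNoetherian (∐ X) := (isLocallyNoetherian_iff_openCover (sigmaOpenCover X)).2 hN
  haveI := fun i => flat_of_isSyntomicMor (hsyn i)
  haveI := fun i => lfp_of_isSyntomicMor (hsyn i)
  haveI : Flat (Sigma.desc f) := inferInstance
  haveI : LocallyOfFinitePresentation (Sigma.desc f) :=
    IsZariskiLocalAtSource.sigmaDesc (fun i => lfp_of_isSyntomicMor (hsyn i))
  haveI : Surjective (Sigma.desc f) := ⟨fun s => by
    obtain ⟨i, z, hz⟩ := hsurj s
    refine ⟨Sigma.ι X i z, ?_⟩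
    rw [← Scheme.Hom.comp_apply, Sigma.ι_desc]
    exact hz⟩
  exact Groth.Agent.S0116.result (Sigma.desc f)

/-- `(S_k)` with local Noetherianity is syntomic local. -/
theorem hasSk_iff {ι : Type u} {S : Scheme.{u}} {X : ι → Scheme.{u}} (f : ∀ i, X i ⟶ S)
    (hsurj : ∀ s : S, ∃ i, s ∈ Set.range (f i).base) (hsyn : ∀ i, Synt.IsSyntomicMor (f i)) (k : ℕ) :
    (IsLocallyNoetherian S ∧ ∀ s : S, LocCoh.HasSk k (S.presheaf.stalk s) (S.presheaf.stalk s)) ↔
      ∀ i, IsLocallyNoetherian (X i) ∧ ∀ x : X i, LocCoh.HasSk k ((X i).presheaf.stalk x) ((X i).presheaf.stalk x) := by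
  constructor
  · rintro ⟨_, h⟩ i
    haveI := lfp_of_isSyntomicMor (hsyn i)
    exact ⟨LocallyOfFiniteType.isLocallyNoetherian (f i), hasSk_ascend (hsyn i) h⟩
  · intro h
    refine ⟨isLocallyNoetherian_descend f hsurj hsyn fun i => (h i).1, fun s => ?_⟩
    obtain ⟨i, x, rfl⟩ := hsurj s
    haveI := (h i).1
    haveI := flat_of_isSyntomicMor (hsyn i)
    exact hasSk_descend (f i) x ((h i).2 x)

theorem isCohenMacaulay_iff {ι : Type u} {S : Scheme.{u}} {X : ι → Scheme.{u}} (f : ∀ i, X i ⟶ S)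
    (hsurj : ∀ s : S, ∃ i, s ∈ Set.range (f i).base) (hsyn : ∀ i, Synt.IsSyntomicMor (f i)) :
    (IsLocallyNoetherian S ∧ ∀ s : S, LocCoh.IsCohenMacaulayLocalRing (S.presheaf.stalk s)) ↔
      ∀ i, IsLocallyNoetherian (X i) ∧ ∀ x : X i, LocCoh.IsCohenMacaulayLocalRing ((X i).presheaf.stalk x) := by
  constructor
  · rintro ⟨_, h⟩ i
    haveI := lfp_of_isSyntomicMor (hsyn i)
    haveI : IsLocallyNoetherian (X i) := LocallyOfFiniteType.isLocallyNoetherian (f i)
    exact ⟨this, fun x => isCohenMacaulayLocalRing_iff_forall_hasSk.2 fun k =>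
      hasSk_ascend (hsyn i) (fun s => isCohenMacaulayLocalRing_iff_forall_hasSk.1 (h s) k) x⟩
  · intro h
    haveI := isLocallyNoetherian_descend f hsurj hsyn fun i => (h i).1
    refine ⟨this, fun s => isCohenMacaulayLocalRing_iff_forall_hasSk.2 fun k => ?_⟩
    obtain ⟨i, x, rfl⟩ := hsurj s
    haveI := (h i).1
    haveI := flat_of_isSyntomicMor (hsyn i)
    exact hasSk_descend (f i) x (isCohenMacaulayLocalRing_iff_forall_hasSk.1 ((h i).2 x) k)

end GrothLib.SyntLoc
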